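import Mathlib
import Groth.Agent.TorBalance.LES

/-!
# Tor of a quotient by a weakly regular sequence, in top degree
-/

set_option autoImplicit false
set_option linter.style.haveILetI false

universe u

namespace Groth.Agent.TorReg

open CategoryTheory Limits MonoidalCategory HomologicalComplex

variable {A : Type u} [CommRing A]

theorem cxR_map_smul (C : ChainComplex (ModuleCat.{u} A) ℕ) (a : A) {X Y : ModuleCat.{u} A} (f : X ⟶ Y) :
    (TorBalance.cxR C).map (a • f) = a • (TorBalance.cxR C).map f := by
  ext n : 1
  show C.X n ◁ (a • f) = a • (C.X n ◁ f)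
  exact MonoidalLinear.whiskerLeft_smul (C.X n) a f

theorem map_smul_of_natIso {C D : Type*} [Category C] [Category D] [Preadditive D] [Linear A D] {F G : C ⥤ D}
    (e : F ≅ G) (a : A) {X Y : C} {f f' : X ⟶ Y} (h : G.map f' = a • G.map f) : F.map f' = a • F.map f := by
  rw [← cancel_mono (e.hom.app Y), e.hom.naturality, h, Linear.comp_smul, Linear.smul_comp, e.hom.naturality]

theorem homologyMap_smul' {K L : ChainComplex (ModuleCat.{u} A) ℕ} (a : A) (φ : K ⟶ L) (p : ℕ) :
    homologyMap (a • φ) p = a • homologyMap φ p :=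
  ShortComplex.homologyMap_smul ((shortComplexFunctor _ _ p).map φ) a

theorem comp_homology_map_smul {C : Type*} [Category C] (F : C ⥤ ChainComplex (ModuleCat.{u} A) ℕ) (a : A)
    {X Y : C} {f f' : X ⟶ Y} (h : F.map f' = a • F.map f) (p : ℕ) :
    (F ⋙ HomologicalComplex.homologyFunctor (ModuleCat.{u} A) (ComplexShape.down ℕ) p).map f' =
      a • (F ⋙ HomologicalComplex.homologyFunctor (ModuleCat.{u} A) (ComplexShape.down ℕ) p).map f := by
  simp only [Functor.comp_map, homologyFunctor_map, h, homologyMap_smul']
  rfl

theorem tor_map_smul (M : ModuleCat.{u} A) (a : A) {X Y : ModuleCat.{u} A} (f : X ⟶ Y) (p : ℕ) :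
    ((Tor (ModuleCat.{u} A) p).obj M).map (a • f) = a • ((Tor (ModuleCat.{u} A) p).obj M).map f :=
  map_smul_of_natIso (TorBalance.balanceIso (projectiveResolution M) p) a
    (comp_homology_map_smul (TorBalance.cxR (projectiveResolution M).complex) a
      (cxR_map_smul (projectiveResolution M).complex a f) p)

theorem main (M : Type u) [AddCommGroup M] [Module A M] (xs : List A)
    (hreg : RingTheory.Sequence.IsWeaklyRegular A xs) :
    (∀ i, xs.length < i →
      IsZero (((Tor (ModuleCat.{u} A) i).obj (ModuleCat.of A M)).obj (ModuleCat.of A (A ⧸ Ideal.ofList xs)))) ∧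
    Nonempty (↑(((Tor (ModuleCat.{u} A) xs.length).obj (ModuleCat.of A M)).obj
      (ModuleCat.of A (A ⧸ Ideal.ofList xs))) ≃ₗ[A] ((A ⧸ Ideal.ofList xs) →ₗ[A] M)) := by
  induction xs using List.reverseRecOn with
  | nil =>
    let e0 : (A ⧸ Ideal.ofList ([] : List A)) ≃ₗ[A] A :=
      Submodule.quotEquivOfEqBot _ Ideal.ofList_nil
    haveI : Module.Projective A (A ⧸ Ideal.ofList ([] : List A)) := Module.Projective.of_equiv e0.symm
    haveI : Projective (ModuleCat.of A (A ⧸ Ideal.ofList ([] : List A))) :=
      (IsProjective.iff_projective _).1 inferInstance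
    refine ⟨fun i hi => ?_, ?_⟩
    · obtain ⟨j, rfl⟩ := Nat.exists_eq_succ_of_ne_zero (Nat.pos_iff_ne_zero.mp hi)
      exact isZero_Tor_succ_of_projective (ModuleCat.{u} A) _ _ j
    · haveI : PreservesFiniteColimits ((tensoringLeft (ModuleCat.{u} A)).obj (ModuleCat.of A M)) :=
        inferInstanceAs (PreservesFiniteColimits (tensorLeft (ModuleCat.of A M)))
      let i0 := (((tensoringLeft (ModuleCat.{u} A)).obj (ModuleCat.of A M)).leftDerivedZeroIsoSelf).app
        (ModuleCat.of A (A ⧸ Ideal.ofList ([] : List A)))
      refine ⟨i0.toLinearEquiv.trans ((TensorProduct.congr (LinearEquiv.refl A M) e0).trans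
        ((TensorProduct.rid A M).trans ((LinearMap.ringLmapEquivSelf A A M).symm.trans
          (e0.symm.congrLeft M A))))⟩
  | append_singleton ys x ih =>
    rw [RingTheory.Sequence.isWeaklyRegular_append_iff, RingTheory.Sequence.isWeaklyRegular_singleton_iff] at hreg
    obtain ⟨hys, hx⟩ := hreg
    obtain ⟨hvan, ⟨eI⟩⟩ := ih hys
    let J' := Ideal.ofList ys
    let J := Ideal.ofList (ys ++ [x])
    have hJ : J = J' ⊔ Ideal.span {x} := by
      simp only [J, J', Ideal.ofList_append, Ideal.ofList_singleton]
    have hle : J' ≤ J := hJ ▸ le_sup_left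
    let μ : (A ⧸ J') →ₗ[A] (A ⧸ J') := x • LinearMap.id
    let π : (A ⧸ J') →ₗ[A] (A ⧸ J) := Submodule.factor hle
    have hμ : Function.Injective μ := by
      have hJJ : (J' • ⊤ : Submodule A A) = J' := by rw [smul_eq_mul, Ideal.mul_top]
      have hx' : IsSMulRegular (A ⧸ J') x :=
        ((Submodule.quotEquivOfEq _ _ hJJ).isSMulRegular_congr x).mp hx
      exact fun a b h => hx' h
    have hπ : Function.Surjective π := Submodule.factor_surjective hle
    have hex : Function.Exact μ π := by
      intro q
      obtain ⟨a, rfl⟩ := Submodule.Quotient.mk_surjective _ q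
      refine ⟨fun h => ?_, ?_⟩
      · have : a ∈ J := (Submodule.Quotient.mk_eq_zero J).mp h
        rw [hJ, Submodule.mem_sup] at this
        obtain ⟨j, hj, y, hy, rfl⟩ := this
        obtain ⟨c, rfl⟩ := Ideal.mem_span_singleton'.mp hy
        refine ⟨Submodule.Quotient.mk c, (Submodule.Quotient.eq J').mpr ?_⟩
        change x * c - (j + c * x) ∈ J'
        rw [show x * c - (j + c * x) = -j by ring]
        exact neg_mem hj
      · rintro ⟨b, hb⟩
        obtain ⟨b, rfl⟩ := Submodule.Quotient.mk_surjective _ b
        have h1 : x * b - a ∈ J := hle ((Submodule.Quotient.eq J').mp hb)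
        refine (Submodule.Quotient.mk_eq_zero J).mpr ?_
        have hxJ : x * b ∈ J := hJ ▸ Ideal.mem_sup_right (Ideal.mul_mem_right _ _ (Ideal.mem_span_singleton_self x))
        simpa using sub_mem hxJ h1
    let S : ShortComplex (ModuleCat.{u} A) := ShortComplex.mk (ModuleCat.ofHom μ) (ModuleCat.ofHom π)
      (ModuleCat.hom_ext (LinearMap.ext fun a => hex.apply_apply_eq_zero a))
    have hS : S.ShortExact :=
      { exact := (ShortComplex.ShortExact.moduleCat_exact_iff_function_exact S).mpr hex
        mono_f := (ModuleCat.mono_iff_injective _).mpr hμ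
        epi_g := (ModuleCat.epi_iff_surjective _).mpr hπ }
    have hlen : (ys ++ [x]).length = ys.length + 1 := by simp
    rw [hlen]
    refine ⟨fun i hi => ?_, ?_⟩
    · obtain ⟨j, rfl⟩ := Nat.exists_eq_succ_of_ne_zero (show i ≠ 0 by omega)
      obtain ⟨δ, w₁, w₂, h₁, h₂⟩ := (TorBalance.exists_les (ModuleCat.of A M) hS j).2
      exact h₁.isZero_X₂ ((hvan (j + 1) (by omega)).eq_of_src _ _) ((hvan j (by omega)).eq_of_tgt _ _)
    · obtain ⟨δ, w₁, w₂, h₁, h₂⟩ := (TorBalance.exists_les (ModuleCat.of A M) hS ys.length).2
      have hδ : Function.Injective δ.hom := by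
        rw [← ModuleCat.mono_iff_injective]
        exact h₁.mono_g ((hvan (ys.length + 1) (by omega)).eq_of_src _ _)
      have hrange : LinearMap.range δ.hom =
          LinearMap.ker ((x • LinearMap.id) : ↑(((Tor (ModuleCat.{u} A) ys.length).obj (ModuleCat.of A M)).obj S.X₁) →ₗ[A] _) := by
        have hm : ((Tor (ModuleCat.{u} A) ys.length).obj (ModuleCat.of A M)).map S.f = x • 𝟙 _ := by
          rw [show S.f = x • 𝟙 _ from rfl, tor_map_smul]
          exact congrArg (x • ·) (CategoryTheory.Functor.map_id _ _)
        have := h₂.moduleCat_range_eq_ker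
        refine this.trans ?_
        change LinearMap.ker (((Tor (ModuleCat.{u} A) ys.length).obj (ModuleCat.of A M)).map S.f).hom = _
        exact congrArg (fun g => LinearMap.ker (ModuleCat.Hom.hom g)) hm
      let j : ((A ⧸ J) →ₗ[A] M) →ₗ[A] ((A ⧸ J') →ₗ[A] M) := LinearMap.lcomp A M π
      have hj : Function.Injective j := fun a b h => LinearMap.ext fun q => by
        obtain ⟨q, rfl⟩ := hπ q
        exact LinearMap.congr_fun h q
      let k : _ →ₗ[A] ((A ⧸ J') →ₗ[A] M) := eI.toLinearMap ∘ₗ δ.hom
      have hk : Function.Injective k := eI.injective.comp hδ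
      have hrng : LinearMap.range k = LinearMap.range j := by
        apply le_antisymm
        · rintro _ ⟨t, rfl⟩
          have ht : x • δ.hom t = 0 := by
            have : δ.hom t ∈ LinearMap.range δ.hom := ⟨t, rfl⟩
            rw [hrange] at this
            exact this
          have hxφ : ∀ q, x • k t q = 0 := fun q => by
            have : x • k t = 0 := by
              change x • eI (δ.hom t) = 0
              rw [← map_smul, ht, map_zero]
            exact LinearMap.congr_fun this q
          refine ⟨Submodule.liftQ J ((k t).comp J'.mkQ) ?_, ?_⟩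
          · rw [hJ]
            refine sup_le (fun a ha => ?_) ?_
            · rw [LinearMap.mem_ker, LinearMap.comp_apply, Submodule.mkQ_apply,
                (Submodule.Quotient.mk_eq_zero _).mpr ha, map_zero]
            · rw [Ideal.span_le, Set.singleton_subset_iff, SetLike.mem_coe, LinearMap.mem_ker,
                LinearMap.comp_apply, Submodule.mkQ_apply]
              have : (Submodule.Quotient.mk x : A ⧸ J') = x • Submodule.Quotient.mk 1 := by
                rw [← Submodule.Quotient.mk_smul, smul_eq_mul, mul_one]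
              rw [this, map_smul]
              exact hxφ _
          · refine LinearMap.ext fun q => ?_
            obtain ⟨q, rfl⟩ := Submodule.Quotient.mk_surjective _ q
            rfl
        · rintro _ ⟨g, rfl⟩
          have hg : x • eI.symm (j g) = 0 := by
            rw [← map_smul]
            refine (LinearEquiv.map_eq_zero_iff _).mpr (LinearMap.ext fun q => ?_)
            change x • g (π q) = 0
            rw [← map_smul, ← map_smul, show π (x • q) = π (μ q) from rfl, hex.apply_apply_eq_zero, map_zero]
          have : eI.symm (j g) ∈ LinearMap.range δ.hom := by rw [hrange]; exact hg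
          obtain ⟨t, ht⟩ := this
          exact ⟨t, by change eI (δ.hom t) = j g; rw [ht, eI.apply_symm_apply]⟩
      exact ⟨(LinearEquiv.ofInjective k hk).trans ((LinearEquiv.ofEq _ _ hrng).trans
        (LinearEquiv.ofInjective j hj).symm)⟩

/-- Version for the left derived functors in the first variable. -/
theorem main' (M : Type u) [AddCommGroup M] [Module A M] (xs : List A)
    (hreg : RingTheory.Sequence.IsWeaklyRegular A xs) :
    Nonempty (↑(((Tor' (ModuleCat.{u} A) xs.length).obj (ModuleCat.of A (A ⧸ Ideal.ofList xs))).obj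
      (ModuleCat.of A M)) ≃ₗ[A] ((A ⧸ Ideal.ofList xs) →ₗ[A] M)) := by
  obtain ⟨e⟩ := (main M xs hreg).2
  let β : (tensoringRight (ModuleCat.{u} A)).obj (ModuleCat.of A M) ≅
      (tensoringLeft (ModuleCat.{u} A)).obj (ModuleCat.of A M) :=
    NatIso.ofComponents (fun X => β_ X (ModuleCat.of A M)) (fun f => BraidedCategory.braiding_naturality_left f _)
  let X := ModuleCat.of A (A ⧸ Ideal.ofList xs)
  let P := projectiveResolution X
  let i1 := P.isoLeftDerivedObj ((tensoringRight (ModuleCat.{u} A)).obj (ModuleCat.of A M)) xs.length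
  let i2 := P.isoLeftDerivedObj ((tensoringLeft (ModuleCat.{u} A)).obj (ModuleCat.of A M)) xs.length
  let i3 := (HomologicalComplex.homologyFunctor (ModuleCat.{u} A) (ComplexShape.down ℕ) xs.length).mapIso
    ((NatIso.mapHomologicalComplex β (ComplexShape.down ℕ)).app P.complex)
  exact ⟨(i1 ≪≫ i3 ≪≫ i2.symm).toLinearEquiv.trans e⟩

end Groth.Agent.TorReg
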